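import Cfsg.Agent.UnitaryTorus.Torus
import Cfsg.Agent.Spectrum.SUBasic
import Cfsg.Agent.LocalStructure.Zsigmondy

/-!
The projective orders of elements of the two half tori of the special unitary group of even degree.
-/

set_option autoImplicit false

namespace Cfsg.Agent.UnitaryTorus

open Matrix Cfsg.Agent.Classical Cfsg.Agent.Classical.Herm

variable {F : Type*} [Field F] [Fintype F] {σ : F →+* F} {q n m : ℕ}

theorem pow_mk_eq_one_iff (hσ : IsInvol σ) (hσq : ∀ x, σ x = x ^ q) (hfix : Nat.card (fixField σ) = q)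
    (hn : 2 ≤ n) (g : Cfsg.SU n F q) (j : ℕ) :
    (QuotientGroup.mk g : Cfsg.PSU n F q) ^ j = 1 ↔
      ∃ a : F, (((g ^ j : Cfsg.SU n F q) : Matrix.SpecialLinearGroup (Fin n) F) : Matrix (Fin n) (Fin n) F) =
        Matrix.scalar (Fin n) a := by
  rw [← QuotientGroup.mk_pow, QuotientGroup.eq_one_iff]
  refine ⟨fun h => center_SU_scalar hσ hσq hfix hn h, fun ⟨a, ha⟩ => Subgroup.mem_center_iff.2 fun h => ?_⟩
  refine Subtype.ext (Subtype.ext ?_)
  simp only [Subgroup.coe_mul, Matrix.SpecialLinearGroup.coe_mul, ha]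
  exact ((Matrix.scalar_commute a (fun r => mul_comm a r) _).eq).symm

theorem gcd_dvd_half {d : ℕ} (hq : 0 < q + 1) (hm : 0 < m) (hv : padicValNat 2 (q + 1) ≤ padicValNat 2 m)
    (hd1 : d ∣ q + 1) (hd2 : d ∣ 2 * m) : d ∣ m := by
  have : Fact (Nat.Prime 2) := ⟨Nat.prime_two⟩
  obtain ⟨a, b, hb, hab⟩ := Nat.exists_eq_two_pow_mul_odd hq.ne'
  have ha : padicValNat 2 (q + 1) = a := by
    rw [hab, padicValNat.mul (by simp) hb.pos.ne', padicValNat.prime_pow,
      padicValNat.eq_zero_of_not_dvd hb.not_two_dvd_nat, add_zero]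
  obtain ⟨c, hc⟩ : 2 ^ a ∣ m := by
    rw [padicValNat_dvd_iff_le hm.ne']
    omega
  have h := Nat.dvd_gcd hd2 hd1
  rw [hab, hc, show 2 * (2 ^ a * c) = 2 ^ a * (2 * c) by ring, Nat.gcd_mul_left,
    Nat.Coprime.gcd_mul_left_cancel c (Nat.coprime_two_left.2 hb)] at h
  rw [hc]
  exact h.trans (Nat.mul_dvd_mul_left _ (Nat.gcd_dvd_left c b))

/-- If the two-part of `n` is bigger than that of `q + 1`, there is an element of order `q^m + 1`. -/
theorem exists_order_add (hσ : IsInvol σ) (hσq : ∀ x, σ x = x ^ q) (hfix : Nat.card (fixField σ) = q)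
    (hF : Fintype.card F = q ^ 2) (hq : 2 ≤ q) (hodd : Odd q) (hn : n = 2 * m) (hm : 2 ≤ m)
    (hv : padicValNat 2 (q + 1) < padicValNat 2 n) :
    Even m ∧ ∃ g : Cfsg.PSU n F q, orderOf g = q ^ m + 1 := by
  have : Fact (Nat.Prime 2) := ⟨Nat.prime_two⟩
  have hvn : padicValNat 2 n = 1 + padicValNat 2 m := by
    rw [hn, padicValNat.mul two_ne_zero (by omega), padicValNat.self (by norm_num)]
  have hv1 : 1 ≤ padicValNat 2 (q + 1) :=
    one_le_padicValNat_of_dvd (by omega) (even_iff_two_dvd.1 hodd.add_one)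
  have hme : Even m := by
    rw [even_iff_two_dvd]
    by_contra h
    rw [padicValNat.eq_zero_of_not_dvd h] at hvn
    omega
  refine ⟨hme, ?_⟩
  obtain ⟨t, rfl⟩ := hme
  set d := Nat.gcd n (q + 1) with hd
  have hdm : d ∣ 2 * t := by
    have h1 : d ∣ 2 * (t + t) := hn ▸ Nat.gcd_dvd_left n (q + 1)
    have h2 := gcd_dvd_half (by omega) (by omega) (by omega) (Nat.gcd_dvd_right n (q + 1)) h1
    rwa [← two_mul] at h2
  have hsplit : tord q (t + t) = tord q t * (q ^ (t + t) + 1) := by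
    rw [tord, tord, Finset.sum_range_add, mul_assoc]
    congr 1
    rw [show q ^ (t + t) = (q ^ 2) ^ t by rw [← two_mul, pow_mul]]
    simp only [pow_add, ← Finset.mul_sum]
    ring
  have hdt : d ∣ tord q t := dvd_tord (by omega) (Nat.gcd_dvd_right _ _) hdm
  obtain ⟨g, hg⟩ := exists_torus hσ hσq hF hn (by omega) hq
  have hdvd : q ^ (t + t) + 1 ∣ orderOf (QuotientGroup.mk g : Cfsg.PSU n F q) := by
    obtain ⟨a, ha⟩ := (pow_mk_eq_one_iff hσ hσq hfix (by omega) g _).1
      (pow_orderOf_eq_one (QuotientGroup.mk g : Cfsg.PSU n F q))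
    have h := hg _ a ha
    rw [← hd, hsplit] at h
    obtain ⟨c, hc⟩ := hdt
    rw [hc] at h
    have hd0 : 0 < d := Nat.gcd_pos_of_pos_right _ (by omega)
    have h2 : d * (q ^ (t + t) + 1) ∣ d * orderOf (QuotientGroup.mk g : Cfsg.PSU n F q) := by
      rw [mul_comm d (orderOf _)]
      exact dvd_trans ⟨c, by ring⟩ h
    exact Nat.dvd_of_mul_dvd_mul_left hd0 h2
  obtain ⟨c, hc⟩ := hdvd
  refine ⟨(QuotientGroup.mk g : Cfsg.PSU n F q) ^ c, ?_⟩
  have hpos := orderOf_pos (QuotientGroup.mk g : Cfsg.PSU n F q)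
  have hc0 : c ≠ 0 := fun h => by rw [h, mul_zero] at hc; omega
  rw [orderOf_pow' _ hc0, hc, Nat.gcd_eq_right (dvd_mul_left _ _), Nat.mul_div_cancel _ (Nat.pos_of_ne_zero hc0)]

/-- An element of `PSU` whose order `e` has a suitable primitive divisor `r` satisfies `e * d ∣ L`. -/
theorem order_mul_gcd_dvd (hσ : IsInvol σ) (hσq : ∀ x, σ x = x ^ q) (hfix : Nat.card (fixField σ) = q)
    (hF : Fintype.card F = q ^ 2) (hq : 2 ≤ q) (hn : n = 2 * m) (hm : 1 ≤ m) {r : ℕ} (hr : r.Prime)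
    (hper : orderOf ((q : ZMod r) ^ 2) = m) (hoddk : ∀ k, Odd k → ((q : ZMod r)) ^ k ≠ -1)
    (hrq : ¬ r ∣ q) {g : Cfsg.PSU n F q} (hrg : r ∣ orderOf g) :
    orderOf g * Nat.gcd n (q + 1) ∣ tord q m := by
  classical
  set d := Nat.gcd n (q + 1) with hd
  obtain ⟨g0, rfl⟩ := QuotientGroup.mk_surjective g
  have ho : r ∣ orderOf g0 := hrg.trans (orderOf_map_dvd (QuotientGroup.mk' (Subgroup.center (Cfsg.SU n F q))) g0)
  set x := g0 ^ (orderOf g0 / r) with hx
  have hox : orderOf x = r := orderOf_pow_orderOf_div (orderOf_pos g0).ne' ho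
  obtain ⟨p, hp⟩ := CharP.exists F
  obtain ⟨f, hpp, hpf⟩ := FiniteField.card F p
  have : Fact p.Prime := ⟨hpp⟩
  obtain ⟨k, -, hk⟩ := (Nat.dvd_prime_pow hpp).1 (show q ∣ p ^ (f : ℕ) from ⟨q, by rw [← hpf, hF, sq]⟩)
  have hrF : (r : F) ≠ 0 := by
    rw [Ne, CharP.cast_eq_zero_iff F p, Nat.prime_dvd_prime_iff_eq hpp hr]
    rintro rfl
    refine hrq ?_
    rw [hk]
    exact dvd_pow_self _ (fun h => by rw [h, pow_zero] at hk; omega)
  let Ω := AlgebraicClosure F
  let ι : F →+* Ω := algebraMap F Ω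
  have : CharP Ω p := charP_of_injective_algebraMap ι.injective p
  have : ExpChar Ω p := ExpChar.prime hpp
  let φ : Ω →+* Ω := iterateFrobenius Ω p k
  have hφ : ∀ z, φ z = z ^ q := fun z => by rw [hk]; exact iterateFrobenius_def p k z
  have hφι : ∀ z, φ (ι z) = ι (σ z) := fun z => by rw [hφ, hσq, map_pow]
  let lift : Cfsg.SU n F q →* Matrix (Fin n) (Fin n) Ω :=
    { toFun := fun h => ((h : Matrix.SpecialLinearGroup (Fin n) F) : Matrix (Fin n) (Fin n) F).map ι
      map_one' := by simp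
      map_mul' := fun a b => by simp [Matrix.map_mul] }
  have hu : ∀ h : Cfsg.SU n F q, ((lift h).map φ)ᵀ * lift h = 1 := by
    intro h
    have h1 := congrArg (fun X : Matrix (Fin n) (Fin n) F => X.map ι)
      ((Cfsg.Agent.Spectrum.mem_SU_iff_adj hσq h.1).1 h.2)
    simp only [Matrix.map_mul, Cfsg.Agent.Spectrum.uadj] at h1
    rw [Matrix.map_one ι (map_zero ι) (map_one ι)] at h1
    refine Eq.trans ?_ h1
    refine congrArg₂ (· * ·) ?_ rfl
    ext i j
    simp [lift, hφι]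
  have h22 : ∀ h : Cfsg.SU n F q, ((lift h).map φ).map φ = lift h := by
    intro h
    ext i j
    simp [lift, hφι, hσ.2]
  have hdet : (lift g0).det = 1 := by
    show (ι.mapMatrix ((g0 : Matrix.SpecialLinearGroup (Fin n) F) : Matrix (Fin n) (Fin n) F)).det = 1
    rw [← RingHom.map_det, Matrix.SpecialLinearGroup.det_coe, map_one]
  have hc : lift g0 * lift x = lift x * lift g0 := by
    rw [← map_mul, ← map_mul, hx, (Commute.self_pow g0 _).eq]
  have hinj : Function.Injective lift := fun a b h =>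
    Subtype.ext (Subtype.ext (Matrix.map_injective ι.injective h))
  set M := lift x with hM
  have hMr : M ^ r = 1 := by rw [hM, ← map_pow, ← hox, pow_orderOf_eq_one, map_one]
  have hM1 : M ≠ 1 := fun h => by
    have : x = 1 := hinj (by rw [← hM, h, map_one])
    rw [this, orderOf_one] at hox
    exact hr.one_lt.ne hox
  let W : Submodule Ω (Fin n → Ω) := LinearMap.range (M - 1).mulVecLin
  have hW : ∀ w ∈ W, M.mulVecLin w ∈ W := by
    rintro _ ⟨u, rfl⟩
    refine ⟨M *ᵥ u, ?_⟩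
    simp only [Matrix.mulVecLin_apply]
    simp only [Matrix.sub_mulVec, Matrix.one_mulVec, Matrix.mulVec_sub]
  have : Nontrivial W := by
    rw [Submodule.nontrivial_iff_ne_bot, Ne, LinearMap.range_eq_bot]
    intro h
    refine hM1 (sub_eq_zero.1 (Matrix.ext_of_mulVec_single fun i => ?_))
    rw [← Matrix.mulVecLin_apply, h, LinearMap.zero_apply, Matrix.zero_mulVec]
  obtain ⟨lam, hlam⟩ := Module.End.exists_eigenvalue (M.mulVecLin.restrict hW)
  obtain ⟨w, hw⟩ := hlam.exists_hasEigenvector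
  have hv0 : (w : Fin n → Ω) ≠ 0 := fun h => hw.2 (Subtype.ext h)
  have hv : M *ᵥ (w : Fin n → Ω) = lam • (w : Fin n → Ω) := congrArg Subtype.val hw.apply_eq_smul
  have hpw : ∀ i : ℕ, M ^ i *ᵥ (w : Fin n → Ω) = lam ^ i • (w : Fin n → Ω) := by
    intro i
    induction i with
    | zero => simp
    | succ i ih => rw [pow_succ, ← Matrix.mulVec_mulVec, hv, Matrix.mulVec_smul, ih, smul_smul, ← pow_succ']
  have hsum : (∑ i ∈ Finset.range r, M ^ i) *ᵥ (w : Fin n → Ω) = 0 := by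
    obtain ⟨u, hu⟩ := w.2
    rw [← hu, Matrix.mulVecLin_apply, Matrix.mulVec_mulVec, geom_sum_mul, hMr, sub_self, Matrix.zero_mulVec]
  have hls : ∑ i ∈ Finset.range r, lam ^ i = 0 := by
    rw [Matrix.sum_mulVec, Finset.sum_congr rfl (fun i _ => hpw i), ← Finset.sum_smul] at hsum
    exact (smul_eq_zero.1 hsum).resolve_right hv0
  have hlr : lam ^ r = 1 := by
    have := geom_sum_mul lam r
    rw [hls, zero_mul] at this
    exact sub_eq_zero.1 this.symm
  have hl1 : lam ≠ 1 := by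
    rintro rfl
    refine hrF (ι.injective ?_)
    simpa using hls
  obtain ⟨-, hsc⟩ := commutant hφ hn hr hper hm hoddk (hu x) (hu g0) (h22 x) (h22 g0) hc hdet hv0 hv hlr hl1
    (by omega)
  have hdL : d ∣ tord q m := dvd_tord (by omega) (Nat.gcd_dvd_right _ _) (hn ▸ Nat.gcd_dvd_left n (q + 1))
  obtain ⟨c, hc'⟩ := hdL
  obtain ⟨z, hz⟩ := hsc d c (Nat.gcd_dvd_right _ _) (by rw [mul_comm, ← hc', tord])
  rw [← map_pow] at hz
  have hone : (QuotientGroup.mk g0 : Cfsg.PSU n F q) ^ c = 1 := by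
    refine (pow_mk_eq_one_iff hσ hσq hfix (by omega) g0 c).2
      ⟨(((g0 ^ c : Cfsg.SU n F q) : Matrix.SpecialLinearGroup (Fin n) F) : Matrix (Fin n) (Fin n) F) ⟨0, by omega⟩ ⟨0, by omega⟩, ?_⟩
    ext i j
    refine ι.injective ?_
    have hz' : ∀ a b, ι ((((g0 ^ c : Cfsg.SU n F q) : Matrix.SpecialLinearGroup (Fin n) F) : Matrix (Fin n) (Fin n) F) a b) =
        Matrix.diagonal (fun _ => z) a b := fun a b => congrFun (congrFun hz a) b
    rw [hz', Matrix.scalar_apply]
    by_cases hij : i = j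
    · subst hij
      rw [Matrix.diagonal_apply_eq, Matrix.diagonal_apply_eq, hz', Matrix.diagonal_apply_eq]
    · rw [Matrix.diagonal_apply_ne _ hij, Matrix.diagonal_apply_ne _ hij, map_zero]
  rw [hc', mul_comm]
  exact Nat.mul_dvd_mul_left d (orderOf_dvd_of_pow_eq_one hone)

/-- If the two-part of `n` is at most that of `q + 1`, no element has order `q^m ± 1` of the opposite parity type. -/
theorem no_order (hσ : IsInvol σ) (hσq : ∀ x, σ x = x ^ q) (hfix : Nat.card (fixField σ) = q)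
    (hF : Fintype.card F = q ^ 2) (hq : 2 ≤ q) (hodd : Odd q) (hn : n = 2 * m) (hm : 2 ≤ m)
    (hv : padicValNat 2 n ≤ padicValNat 2 (q + 1)) {g : Cfsg.PSU n F q}
    (hg : orderOf g = if Even m then q ^ m + 1 else q ^ m - 1) : False := by
  have : Fact (Nat.Prime 2) := ⟨Nat.prime_two⟩
  have hq3 : 3 ≤ q := by
    obtain ⟨t, rfl⟩ := hodd
    omega
  have h2d : 2 ∣ Nat.gcd n (q + 1) := Nat.dvd_gcd ⟨m, hn⟩ (even_iff_two_dvd.1 hodd.add_one)
  set n' := if Even m then 2 * m else m with hn'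
  have hn'3 : 3 ≤ n' := by
    rw [hn']
    split_ifs with h
    · omega
    · rw [Nat.not_even_iff_odd] at h
      obtain ⟨t, rfl⟩ := h
      omega
  obtain ⟨r, hr, hrd, hrmin⟩ := Cfsg.Agent.LocalStructure.zsigmondy (a := q) (n := n') (by omega) (by omega)
    (fun h => by omega) (fun h => by omega)
  have : Fact r.Prime := ⟨hr⟩
  have hcast : ∀ k : ℕ, ((q : ZMod r)) ^ k = 1 ↔ r ∣ q ^ k - 1 := by
    intro k
    rw [← ZMod.natCast_eq_zero_iff, Nat.cast_sub (Nat.one_le_pow k q (by omega)), sub_eq_zero]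
    simp
  have hou : orderOf (q : ZMod r) = n' :=
    (orderOf_eq_iff (by omega)).2 ⟨(hcast _).2 hrd, fun k hk hk0 h => hrmin k hk0 hk ((hcast _).1 h)⟩
  have hr2 : r ≠ 2 := by
    rintro rfl
    refine hrmin 1 one_pos (by omega) ?_
    rw [pow_one]
    exact even_iff_two_dvd.1 (Nat.Odd.sub_odd hodd odd_one)
  have hrq : ¬ r ∣ q := fun h => by
    have h0 := (hcast n').2 hrd
    rw [(ZMod.natCast_eq_zero_iff _ _).2 h, zero_pow (by omega)] at h0
    exact zero_ne_one h0
  have hper : orderOf ((q : ZMod r) ^ 2) = m := by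
    rw [orderOf_pow' _ two_ne_zero, hou, hn']
    split_ifs with h
    · rw [Nat.gcd_eq_right (dvd_mul_right 2 m), Nat.mul_div_cancel_left _ two_pos]
    · rw [Nat.Coprime.gcd_eq_one (Nat.coprime_two_right.2 (Nat.not_even_iff_odd.1 h)), Nat.div_one]
  have hoddk : ∀ k, Odd k → ((q : ZMod r)) ^ k ≠ -1 := by
    intro k hk h
    have h2 : n' ∣ 2 * k := by
      rw [← hou]
      refine orderOf_dvd_of_pow_eq_one ?_
      rw [mul_comm, pow_mul, h, neg_one_sq]
    rw [hn'] at h2
    split_ifs at h2 with he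
    · exact hk.not_two_dvd_nat ((even_iff_two_dvd.1 he).trans (Nat.dvd_of_mul_dvd_mul_left two_pos h2))
    · have h3 : m ∣ k := (Nat.Coprime.dvd_mul_left (Nat.coprime_two_right.2 (Nat.not_even_iff_odd.1 he))).1 h2
      have h4 : ((q : ZMod r)) ^ k = 1 := by
        rw [← orderOf_dvd_iff_pow_eq_one, hou, hn', if_neg he]
        exact h3
      rw [h4] at h
      have h5 : ((2 : ℕ) : ZMod r) = 0 := by push_cast; linear_combination h
      exact hr2 ((Nat.prime_dvd_prime_iff_eq hr Nat.prime_two).1 ((ZMod.natCast_eq_zero_iff _ _).1 h5))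
  have hre : r ∣ orderOf g := by
    rw [hg]
    rw [hn'] at hrd
    split_ifs with h
    · rw [if_pos h, mul_comm, pow_mul, show (q ^ m) ^ 2 - 1 = (q ^ m) ^ 2 - 1 ^ 2 by rw [one_pow], Nat.sq_sub_sq] at hrd
      exact (hr.dvd_mul.1 hrd).resolve_right (hrmin m (by omega) (by rw [hn', if_pos h]; omega))
    · rwa [if_neg h] at hrd
  have hmain := order_mul_gcd_dvd hσ hσq hfix hF hq hn (by omega) hr hper hoddk hrq hre
  rw [hg] at hmain
  split_ifs at hmain with h
  · have hvn : padicValNat 2 n = 1 + padicValNat 2 m := by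
      rw [hn, padicValNat.mul two_ne_zero (by omega), padicValNat.self (by norm_num)]
    have hvm : 1 ≤ padicValNat 2 m := one_le_padicValNat_of_dvd (by omega) (even_iff_two_dvd.1 h)
    have h4 : 4 ∣ q + 1 := by
      rw [show 4 = 2 ^ 2 by rfl, padicValNat_dvd_iff_le (by omega)]
      omega
    have hvq : padicValNat 2 (q - 1) = 1 := by
      obtain ⟨t, ht⟩ := h4
      rw [show q - 1 = 2 * (2 * t - 1) by omega, padicValNat.mul two_ne_zero (by omega),
        padicValNat.self (by norm_num), padicValNat.eq_zero_of_not_dvd (by omega)]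
    have hLTE := padicValNat.pow_two_sub_one (x := q) (n := 2 * m) (by omega) hodd.not_two_dvd_nat (by omega)
      ⟨m, two_mul m⟩
    have htp := tord_pos hq (show 1 ≤ m by omega)
    rw [← tord_mul (by omega) m, padicValNat.mul htp.ne' (by omega), hvq, ← hn] at hLTE
    have h2pow : 2 ^ (1 + padicValNat 2 n) ∣ tord q m := by
      rw [pow_add, pow_one]
      refine (Nat.mul_dvd_mul ?_ (Nat.dvd_gcd pow_padicValNat_dvd ?_)).trans hmain
      · exact even_iff_two_dvd.1 (hodd.pow.add_one)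
      · exact (padicValNat_dvd_iff_le (by omega)).2 hv
    rw [padicValNat_dvd_iff_le htp.ne'] at h2pow
    omega
  · have h1 : (q - 1) * 2 ∣ (q ^ m - 1) * Nat.gcd n (q + 1) := Nat.mul_dvd_mul (Nat.sub_one_dvd_pow_sub_one q m) h2d
    have h2 := Nat.dvd_of_mul_dvd_mul_left (show 0 < q - 1 by omega) (h1.trans hmain)
    have hq1 : (q : ZMod 2) = 1 := ZMod.natCast_eq_one_iff_odd.2 hodd
    have hm1 : (m : ZMod 2) = 1 := ZMod.natCast_eq_one_iff_odd.2 (Nat.not_even_iff_odd.1 h)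
    rw [← ZMod.natCast_eq_zero_iff, Nat.cast_sum] at h2
    simp [hq1, hm1] at h2

theorem criterion (hF : Fintype.card F = q ^ 2) (hodd : Odd q) (hn : 4 ≤ n) (heven : Even n) :
    (∃ g : Cfsg.PSU n F q, orderOf g = if Even (n / 2) then q ^ (n / 2) + 1 else q ^ (n / 2) - 1) ↔
      padicValNat 2 (q + 1) < padicValNat 2 n := by
  obtain ⟨σ, hσq, hσ, hfix, hq⟩ := exists_powHom hF
  obtain ⟨m, hm⟩ := even_iff_two_dvd.1 heven
  have hn2 : n / 2 = m := by omega
  rw [hn2]
  constructor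
  · rintro ⟨g, hg⟩
    by_contra hv
    exact no_order hσ hσq hfix hF hq hodd hm (by omega) (not_lt.1 hv) hg
  · intro hv
    obtain ⟨he, g, hg⟩ := exists_order_add hσ hσq hfix hF hq hodd hm (by omega) hv
    exact ⟨g, by rw [if_pos he, hg]⟩

end Cfsg.Agent.UnitaryTorus
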