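import Mathlib

/-!
Commutants of regular semisimple isometries of a hermitian form, over an algebraically closed field.
-/

set_option autoImplicit false

namespace Cfsg.Agent.UnitaryTorus

open Matrix

variable {Ω : Type*} [Field Ω] {q n m : ℕ} {φ : Ω →+* Ω}

/-- Twisted transpose relation gives eigenvectors of the transpose. -/
theorem eigen_dual (hφ : ∀ z, φ z = z ^ q) {M : Matrix (Fin n) (Fin n) Ω} (hM : (M.map φ)ᵀ * M = 1)
    {v : Fin n → Ω} {a : Ω} (ha : a ≠ 0) (hv : M *ᵥ v = a • v) :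
    Mᵀ *ᵥ (fun j => φ (v j)) = (a⁻¹ ^ q) • fun j => φ (v j) := by
  have h1 : M.map φ *ᵥ (fun j => φ (v j)) = a ^ q • fun j => φ (v j) := by
    funext j
    have h2 := congrArg φ (congrFun hv j)
    rw [RingHom.map_mulVec] at h2
    rw [Pi.smul_apply, smul_eq_mul, ← hφ, ← map_mul]
    exact h2
  have h3 : Mᵀ * M.map φ = 1 := by
    have h4 := congrArg Matrix.transpose hM
    rwa [Matrix.transpose_mul, Matrix.transpose_transpose, Matrix.transpose_one] at h4
  have h5 := congrArg (fun w => Mᵀ *ᵥ w) h1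
  simp only [Matrix.mulVec_mulVec, h3, Matrix.one_mulVec, Matrix.mulVec_smul] at h5
  conv_rhs => rw [h5, smul_smul, inv_pow, inv_mul_cancel₀ (pow_ne_zero _ ha), one_smul]

/-- Twice twisting gives eigenvectors again. -/
theorem eigen_twist (hφ : ∀ z, φ z = z ^ q) {M : Matrix (Fin n) (Fin n) Ω} (hM : (M.map φ).map φ = M)
    {v : Fin n → Ω} {a : Ω} (hv : M *ᵥ v = a • v) :
    M *ᵥ (fun j => φ (φ (v j))) = (a ^ q ^ 2) • fun j => φ (φ (v j)) := by
  funext j
  have h2 := congrArg (fun z => φ (φ z)) (congrFun hv j)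
  simp only [RingHom.map_mulVec, Pi.smul_apply, smul_eq_mul, map_mul] at h2
  rw [Pi.smul_apply, smul_eq_mul, show a ^ q ^ 2 = φ (φ a) by rw [hφ, hφ, ← pow_mul, sq]]
  rw [hM] at h2
  exact h2

/-- An element of order `r` with `r` primitive, and its commutant in the special unitary group. -/
theorem commutant (hφ : ∀ z, φ z = z ^ q) (hn : n = 2 * m) {r : ℕ} (hr : r.Prime) (hper : orderOf ((q : ZMod r) ^ 2) = m)
    (hm : 1 ≤ m) (hodd : ∀ k, Odd k → ((q : ZMod r)) ^ k ≠ -1)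
    {M G : Matrix (Fin n) (Fin n) Ω} (hM : (M.map φ)ᵀ * M = 1) (hG : (G.map φ)ᵀ * G = 1)
    (hM2 : (M.map φ).map φ = M) (hG2 : (G.map φ).map φ = G) (hc : G * M = M * G) (hdet : G.det = 1)
    {v : Fin n → Ω} {lam : Ω} (hv0 : v ≠ 0) (hv : M *ᵥ v = lam • v) (hlr : lam ^ r = 1) (hl1 : lam ≠ 1)
    (hq : 1 ≤ q) :
    G ^ ((q - 1) * ∑ i ∈ Finset.range m, (q ^ 2) ^ i) = 1 ∧
      ∀ d k, d ∣ q + 1 → k * d = (q - 1) * ∑ i ∈ Finset.range m, (q ^ 2) ^ i →
        ∃ w, G ^ k = Matrix.diagonal fun _ => w := by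
  classical
  have hl0 : lam ≠ 0 := fun h => by rw [h, zero_pow hr.ne_zero] at hlr; exact zero_ne_one hlr
  have hord : orderOf lam = r := by
    have : Fact r.Prime := ⟨hr⟩
    exact orderOf_eq_prime hlr hl1
  have hpow : ∀ a b : ℕ, lam ^ a = lam ^ b → (a : ZMod r) = b := by
    intro a b h
    have hu : (Units.mk0 lam hl0) ^ a = (Units.mk0 lam hl0) ^ b := Units.ext (by simpa using h)
    rw [pow_eq_pow_iff_modEq, ← orderOf_units, Units.val_mk0, hord] at hu
    exact (ZMod.natCast_eq_natCast_iff _ _ _).2 hu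
  have hu2 : ((q : ZMod r)) ^ (2 * m) = 1 := by rw [pow_mul, ← hper, pow_orderOf_eq_one]
  let z0 : ℕ → Fin n → Ω := fun i => ((fun w : Fin n → Ω => fun j => φ (φ (w j)))^[i]) v
  have hz0s : ∀ i, z0 (i + 1) = fun j => φ (φ (z0 i j)) := fun i =>
    Function.iterate_succ_apply' (fun w : Fin n → Ω => fun j => φ (φ (w j))) i v
  have hz0ne : ∀ i, z0 i ≠ 0 := by
    intro i
    induction i with
    | zero => exact hv0
    | succ i ih =>
      intro h
      rw [hz0s] at h
      exact ih (funext fun j => by simpa [map_eq_zero] using congrFun h j)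
  have hz0 : ∀ i, M *ᵥ z0 i = lam ^ (q ^ 2) ^ i • z0 i := by
    intro i
    induction i with
    | zero => rw [pow_zero, pow_one]; exact hv
    | succ i ih =>
      rw [hz0s, eigen_twist hφ hM2 ih, ← pow_mul, ← pow_succ]
  let lamS : Fin m ⊕ Fin m → Ω := Sum.elim (fun i => lam ^ (q ^ 2) ^ (i : ℕ))
    (fun i => (lam⁻¹) ^ (q * (q ^ 2) ^ (i : ℕ)))
  let w0 : Fin m → Fin n → Ω := fun i j => φ (z0 i j)
  have hw0ne : ∀ i, w0 i ≠ 0 := fun i h => hz0ne i (funext fun j => by simpa [w0, map_eq_zero] using congrFun h j)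
  have hw0 : ∀ i, Mᵀ *ᵥ w0 i = lamS (Sum.inr i) • w0 i := by
    intro i
    rw [show lamS (Sum.inr i) = (lam ^ (q ^ 2) ^ (i : ℕ))⁻¹ ^ q by
      show lam⁻¹ ^ (q * (q ^ 2) ^ (i : ℕ)) = _
      rw [mul_comm, pow_mul, inv_pow lam]]
    exact eigen_dual hφ hM (pow_ne_zero _ hl0) (hz0 i)
  have hex : ∀ i, ∃ z : Fin n → Ω, z ≠ 0 ∧ M *ᵥ z = lamS (Sum.inr i) • z := by
    intro i
    have h1 : (Mᵀ - Matrix.diagonal fun _ => lamS (Sum.inr i)).det = 0 := by
      refine Matrix.exists_mulVec_eq_zero_iff.1 ⟨w0 i, hw0ne i, ?_⟩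
      funext j
      simp [Matrix.sub_mulVec, hw0 i, Matrix.mulVec_diagonal]
    have h2 : (M - Matrix.diagonal fun _ => lamS (Sum.inr i)).det = 0 := by
      rw [← Matrix.det_transpose, Matrix.transpose_sub, Matrix.diagonal_transpose]
      exact h1
    obtain ⟨z, hz, hz'⟩ := Matrix.exists_mulVec_eq_zero_iff.2 h2
    refine ⟨z, hz, funext fun j => ?_⟩
    have h3 := congrFun hz' j
    simpa [Matrix.sub_mulVec, Matrix.mulVec_diagonal, sub_eq_zero] using h3
  choose z1 hz1ne hz1 using hex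
  let z : Fin m ⊕ Fin m → Fin n → Ω := Sum.elim (fun i => z0 i) z1
  have hzne : ∀ s, z s ≠ 0 := by
    rintro (i | i)
    · exact hz0ne i
    · exact hz1ne i
  have hz : ∀ s, M *ᵥ z s = lamS s • z s := by
    rintro (i | i)
    · exact hz0 i
    · exact hz1 i
  have hinj : Function.Injective lamS := by
    have hupow : ∀ i j : ℕ, i < m → j < m → ((q : ZMod r) ^ 2) ^ i = ((q : ZMod r) ^ 2) ^ j → i = j := by
      intro i j hi hj h
      exact pow_injOn_Iio_orderOf (by simpa [hper] using hi) (by simpa [hper] using hj) h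
    have hcross : ∀ i j : Fin m, lamS (Sum.inl i) ≠ lamS (Sum.inr j) := by
      intro i j h
      have h1 : lam ^ ((q ^ 2) ^ (i : ℕ) + q * (q ^ 2) ^ (j : ℕ)) = lam ^ 0 := by
        show _ = _
        rw [pow_add, pow_zero]
        change lamS (Sum.inl i) * _ = 1
        rw [h]
        show lam⁻¹ ^ (q * (q ^ 2) ^ (j : ℕ)) * lam ^ (q * (q ^ 2) ^ (j : ℕ)) = 1
        rw [inv_pow, inv_mul_cancel₀ (pow_ne_zero _ hl0)]
      have h2 := hpow _ _ h1
      push_cast at h2
      have h3 : ((q : ZMod r)) ^ (2 * (j : ℕ) + 1) = -((q : ZMod r) ^ (2 * (i : ℕ))) := by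
        rw [pow_succ, pow_mul, pow_mul, eq_neg_iff_add_eq_zero, ← h2]
        ring
      refine hodd (2 * (j : ℕ) + 1 + 2 * (m - (i : ℕ))) ⟨(j : ℕ) + (m - (i : ℕ)), by ring⟩ ?_
      rw [pow_add, h3, neg_mul, ← pow_add, show 2 * (i : ℕ) + 2 * (m - (i : ℕ)) = 2 * m by omega, hu2]
    rintro (i | i) (j | j) h
    · refine congrArg Sum.inl (Fin.ext (hupow _ _ i.2 j.2 ?_))
      simpa using hpow _ _ h
    · exact absurd h (hcross i j)
    · exact absurd h.symm (hcross j i)
    · refine congrArg Sum.inr (Fin.ext (hupow _ _ i.2 j.2 ?_))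
      have h1 : lam ^ (q * (q ^ 2) ^ (i : ℕ)) = lam ^ (q * (q ^ 2) ^ (j : ℕ)) := by
        have h' : lam⁻¹ ^ (q * (q ^ 2) ^ (i : ℕ)) = lam⁻¹ ^ (q * (q ^ 2) ^ (j : ℕ)) := h
        simpa [inv_pow] using h'
      have h2 := hpow _ _ h1
      push_cast at h2
      have : Fact r.Prime := ⟨hr⟩
      refine mul_left_cancel₀ (fun h0 => ?_) h2
      have h3 := hu2
      rw [h0, zero_pow (by omega)] at h3
      exact zero_ne_one h3
  have hli : LinearIndependent Ω z :=
    Module.End.eigenvectors_linearIndependent' (Matrix.toLin' M) lamS hinj z fun s =>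
      ⟨Module.End.mem_eigenspace_iff.2 (by rw [Matrix.toLin'_apply]; exact hz s), hzne s⟩
  let b : Module.Basis (Fin m ⊕ Fin m) Ω (Fin n → Ω) :=
    basisOfLinearIndependentOfCardEqFinrank' z hli (by simp [hn]; omega)
  have hb : ∀ s, b s = z s := fun s => by simp [b]
  have hline : ∀ s (u : Fin n → Ω), M *ᵥ u = lamS s • u → u = b.repr u s • z s := by
    intro s u hu
    have h1 : ∀ t, t ≠ s → b.repr u t = 0 := by
      intro t hts
      have h2 : M *ᵥ u = ∑ l, (b.repr u l * lamS l) • b l := by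
        conv_lhs => rw [← b.sum_repr u]
        simp only [Matrix.mulVec_sum, Matrix.mulVec_smul, hb, hz, smul_smul]
      have h3 := congrArg (fun w => b.repr w t) h2
      rw [hu, b.repr_sum_self] at h3
      simp only [map_smul, Finsupp.smul_apply, smul_eq_mul] at h3
      by_contra hne
      refine hts (hinj ?_)
      rw [mul_comm] at h3
      exact (mul_left_cancel₀ hne h3).symm
    conv_lhs => rw [← b.sum_repr u]
    rw [Finset.sum_eq_single s (fun t _ ht => by rw [h1 t ht, zero_smul]) (by simp), hb]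
  have hGz : ∀ s, ∃ a : Ω, G *ᵥ z s = a • z s := by
    intro s
    refine ⟨_, hline s _ ?_⟩
    rw [Matrix.mulVec_mulVec, ← hc, ← Matrix.mulVec_mulVec, hz, Matrix.mulVec_smul]
  choose nu hnu using hGz
  have hGu : IsUnit G.det := by rw [hdet]; exact isUnit_one
  have hnu0 : ∀ s, nu s ≠ 0 := by
    intro s h
    refine hzne s (Matrix.mulVec_injective_iff_isUnit.2 ((Matrix.isUnit_iff_isUnit_det G).2 hGu) ?_)
    rw [hnu, h, zero_smul, Matrix.mulVec_zero]
  let i0 : Fin m := ⟨0, by omega⟩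
  set mu := nu (Sum.inl i0) with hmu
  have hleft : ∀ i : Fin m, nu (Sum.inl i) = mu ^ (q ^ 2) ^ (i : ℕ) := by
    have h1 : ∀ i, G *ᵥ z0 i = mu ^ (q ^ 2) ^ i • z0 i := by
      intro i
      induction i with
      | zero => rw [pow_zero, pow_one]; exact hnu (Sum.inl i0)
      | succ i ih => rw [hz0s, eigen_twist hφ hG2 ih, ← pow_mul, ← pow_succ]
    intro i
    exact smul_left_injective Ω (hzne (Sum.inl i)) ((hnu (Sum.inl i)).symm.trans (h1 i))
  have hright : ∀ i : Fin m, nu (Sum.inr i) = mu⁻¹ ^ (q * (q ^ 2) ^ (i : ℕ)) := by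
    intro i
    have hmu0 : mu ≠ 0 := hnu0 _
    have hGw : Gᵀ *ᵥ w0 i = (mu⁻¹ ^ (q * (q ^ 2) ^ (i : ℕ))) • w0 i := by
      rw [show mu⁻¹ ^ (q * (q ^ 2) ^ (i : ℕ)) = (mu ^ (q ^ 2) ^ (i : ℕ))⁻¹ ^ q by
        rw [mul_comm, pow_mul, inv_pow mu]]
      refine eigen_dual hφ hG (pow_ne_zero _ hmu0) ?_
      rw [← hleft i]
      exact hnu (Sum.inl i)
    have hpair : ∀ (A : Matrix (Fin n) (Fin n) Ω) (x y : Fin n → Ω), x ⬝ᵥ (A *ᵥ y) = (Aᵀ *ᵥ x) ⬝ᵥ y := fun A x y => by
      rw [Matrix.mulVec_transpose, Matrix.dotProduct_mulVec]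
    have hperp : ∀ t, t ≠ Sum.inr i → w0 i ⬝ᵥ z t = 0 := by
      intro t ht
      have h1 := hpair M (w0 i) (z t)
      rw [hz, hw0, dotProduct_smul, smul_dotProduct] at h1
      simp only [smul_eq_mul] at h1
      by_contra hne
      exact ht (hinj (mul_right_cancel₀ hne h1))
    have hne : w0 i ⬝ᵥ z (Sum.inr i) ≠ 0 := by
      intro h0
      refine hw0ne i (dotProduct_eq_zero _ fun u => ?_)
      rw [← b.sum_repr u, dotProduct_sum]
      refine Finset.sum_eq_zero fun t _ => ?_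
      rw [dotProduct_smul, hb]
      by_cases ht : t = Sum.inr i
      · rw [ht, h0, smul_zero]
      · rw [hperp t ht, smul_zero]
    have h1 := hpair G (w0 i) (z (Sum.inr i))
    rw [hnu, hGw, dotProduct_smul, smul_dotProduct] at h1
    simp only [smul_eq_mul] at h1
    exact mul_right_cancel₀ hne h1
  have hmu0 : mu ≠ 0 := hnu0 _
  set S := ∑ i ∈ Finset.range m, (q ^ 2) ^ i with hS
  have hprod : G.det = mu ^ S * (mu ^ (q * S))⁻¹ := by
    have hconj : (LinearMap.toMatrix b b) (Matrix.toLin' G) = Matrix.diagonal nu := by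
      ext s t
      rw [LinearMap.toMatrix_apply, hb, Matrix.toLin'_apply, hnu, map_smul, ← hb, b.repr_self]
      by_cases hst : s = t
      · subst hst; simp
      · simp [hst, Finsupp.single_eq_of_ne]
    rw [← LinearMap.det_toLin', ← LinearMap.det_toMatrix b, hconj, Matrix.det_diagonal, Fintype.prod_sum_type]
    simp only [hleft, hright, inv_pow, Finset.prod_inv_distrib, Finset.prod_pow_eq_pow_sum]
    rw [hS, Finset.mul_sum, ← Fin.sum_univ_eq_sum_range (fun i => (q ^ 2) ^ i),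
      ← Fin.sum_univ_eq_sum_range (fun i => q * (q ^ 2) ^ i)]
  have hmuL : mu ^ ((q - 1) * S) = 1 := by
    rw [hdet] at hprod
    have h1 : mu ^ (q * S) = mu ^ S := by
      field_simp at hprod
      exact hprod
    refine mul_left_cancel₀ (pow_ne_zero S hmu0) ?_
    rw [← pow_add, mul_one, show S + (q - 1) * S = q * S by
      rw [← one_add_mul, show 1 + (q - 1) = q by omega]]
    exact h1
  have hpowz : ∀ (k : ℕ) s, (G ^ k) *ᵥ z s = nu s ^ k • z s := by
    intro k s
    induction k with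
    | zero => simp
    | succ k ih => rw [pow_succ, ← Matrix.mulVec_mulVec, hnu, Matrix.mulVec_smul, ih, smul_smul, ← pow_succ']
  have hscalar : ∀ k w, (∀ s, nu s ^ k = w) → G ^ k = Matrix.diagonal fun _ => w := by
    intro k w hw
    refine Matrix.toLin'.injective (b.ext fun s => ?_)
    rw [Matrix.toLin'_apply, Matrix.toLin'_apply, hb, hpowz, hw]
    funext j
    simp [Matrix.mulVec_diagonal]
  refine ⟨?_, fun d k hd hk => ⟨mu ^ k, hscalar k _ ?_⟩⟩
  · rw [hscalar _ 1 ?_, Matrix.diagonal_one]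
    rintro (i | i)
    · rw [hleft, ← pow_mul, mul_comm, pow_mul, hmuL, one_pow]
    · rw [hright, ← pow_mul, mul_comm, pow_mul, inv_pow, hmuL, inv_one, one_pow]
  · have hwd : (mu ^ k) ^ d = 1 := by rw [← pow_mul, hk, hmuL]
    have hwq1 : (mu ^ k) ^ (q + 1) = 1 := by
      obtain ⟨c, hc'⟩ := hd
      rw [hc', pow_mul, hwd, one_pow]
    have hwq : (mu ^ k) ^ q = (mu ^ k)⁻¹ := by
      rw [pow_succ] at hwq1
      exact eq_inv_of_mul_eq_one_left hwq1
    have hwq2 : ∀ i : ℕ, (mu ^ k) ^ (q ^ 2) ^ i = mu ^ k := by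
      intro i
      induction i with
      | zero => simp
      | succ i ih => rw [pow_succ, pow_mul, ih, sq, pow_mul, hwq, inv_pow, hwq, inv_inv]
    rintro (i | i)
    · rw [hleft, ← pow_mul, mul_comm, pow_mul, hwq2]
    · rw [hright, ← pow_mul, mul_comm, pow_mul, inv_pow, mul_comm q, pow_mul, inv_pow, hwq2, inv_pow, hwq, inv_inv]

end Cfsg.Agent.UnitaryTorus
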