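import Cfsg.Agent.MatModule.UnitaryConj
import Cfsg.Agent.MatModule.LargeSylow
import Cfsg.Agent.UnitaryTorus.Eigen

/-!
Elements of maximal tori of the special unitary group in even dimension.
-/

set_option autoImplicit false

namespace Cfsg.Agent.UnitaryTorus

open Matrix Module Cfsg.Agent.Classical Cfsg.Agent.Classical.Herm Cfsg.Agent.UnitaryConj

variable {F : Type*} [Field F] {σ : F →+* F} {q n m : ℕ}

/-- `(q - 1) (1 + q² + ⋯ + q^(2m-2))`, the order of the torus. -/
def tord (q m : ℕ) : ℕ := (q - 1) * ∑ i ∈ Finset.range m, (q ^ 2) ^ i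

theorem tord_mul (hq : 1 ≤ q) (m : ℕ) : tord q m * (q + 1) = q ^ (2 * m) - 1 := by
  have h := geom_sum_mul_add (q ^ 2 - 1) m
  rw [Nat.sub_add_cancel (Nat.one_le_pow 2 q hq)] at h
  rw [pow_mul, tord, mul_comm (q - 1), mul_assoc, show (q - 1) * (q + 1) = q ^ 2 - 1 by
    rw [show q ^ 2 - 1 = q ^ 2 - 1 ^ 2 by rw [one_pow], Nat.sq_sub_sq, mul_comm]]
  omega

theorem tord_pos (hq : 2 ≤ q) (hm : 1 ≤ m) : 0 < tord q m := by
  refine Nat.mul_pos (by omega) (Finset.sum_pos (fun i _ => Nat.pow_pos (Nat.pow_pos (by omega))) ?_)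
  exact Finset.nonempty_range_iff.2 (by omega)

/-- `d` divides the torus order. -/
theorem dvd_tord (hq : 1 ≤ q) {d m : ℕ} (hd : d ∣ q + 1) (hdn : d ∣ 2 * m) : d ∣ tord q m := by
  have hneg : (q : ZMod d) = -1 := by
    have : ((q + 1 : ℕ) : ZMod d) = 0 := (ZMod.natCast_eq_zero_iff _ _).2 hd
    push_cast at this
    exact eq_neg_of_add_eq_zero_left this
  rw [← ZMod.natCast_eq_zero_iff, tord, Nat.cast_mul, Nat.cast_sub hq, Nat.cast_sum]
  simp only [Nat.cast_pow, hneg, Nat.cast_one, neg_one_sq, one_pow, Finset.sum_const, Finset.card_range,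
    nsmul_eq_mul, mul_one]
  have : ((2 * m : ℕ) : ZMod d) = 0 := (ZMod.natCast_eq_zero_iff _ _).2 hdn
  push_cast at this
  linear_combination -this

variable [Fintype F]

/-- An element of `SU` whose order is the torus order and whose powers are central only as scalars. -/
theorem exists_torus (hσ : IsInvol σ) (hσq : ∀ x, σ x = x ^ q) (hF : Fintype.card F = q ^ 2) (hn : n = 2 * m)
    (hm : 1 ≤ m) (hq : 2 ≤ q) :
    ∃ g : Cfsg.SU n F q, ∀ (j : ℕ) (a : F),
      (((g ^ j : Cfsg.SU n F q) : Matrix.SpecialLinearGroup (Fin n) F) : Matrix (Fin n) (Fin n) F) =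
        Matrix.scalar (Fin n) a → tord q m ∣ j * Nat.gcd n (q + 1) := by
  classical
  obtain ⟨A, hA⟩ := Cfsg.Agent.LargeSylow.exists_gl_orderOf hF (d := m) hm
    (k := q ^ (2 * m) - 1) (by rw [← pow_mul])
  set A' := A ^ (q + 1) with hA'
  have hoA : orderOf A' = tord q m := by
    rw [hA', orderOf_pow, hA, ← tord_mul (by omega) m, Nat.gcd_eq_right (dvd_mul_left _ _)]
    exact Nat.mul_div_cancel _ (by omega)
  have hinv : ∀ x, σ (σ x) = x := hσ.2
  have hadjdet : ∀ {k : ℕ} (X : Matrix (Fin k) (Fin k) F), (adj σ X).det = σ X.det := fun X => by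
    rw [adj, Matrix.det_transpose, RingHom.map_det, RingHom.mapMatrix_apply]
  let eJ : Fin m ⊕ Fin m ≃ Fin n := finSumFinEquiv.trans (finCongr (by omega))
  let blk : Matrix (Fin m) (Fin m) F → Matrix (Fin m) (Fin m) F → Matrix (Fin m) (Fin m) F →
      Matrix (Fin m) (Fin m) F → Matrix (Fin n) (Fin n) F :=
    fun a b c d => Matrix.reindex eJ eJ (Matrix.fromBlocks a b c d)
  have hblk : ∀ a b c d a' b' c' d', blk a b c d * blk a' b' c' d' =
      blk (a * a' + b * c') (a * b' + b * d') (c * a' + d * c') (c * b' + d * d') := by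
    intros
    simp only [blk, Matrix.reindex_apply, Matrix.submatrix_mul_equiv, Matrix.fromBlocks_multiply]
  have hblk1 : blk 1 0 0 1 = 1 := by simp [blk, Matrix.fromBlocks_one]
  have hadj : ∀ a b c d, adj σ (blk a b c d) = blk (adj σ a) (adj σ c) (adj σ b) (adj σ d) := by
    intros
    simp only [blk, adj, Matrix.reindex_apply, ← Matrix.submatrix_map, Matrix.transpose_submatrix,
      Matrix.fromBlocks_map, Matrix.fromBlocks_transpose]
  set J := blk 0 1 1 0 with hJ
  have hJJ : J * J = 1 := by rw [hJ, hblk]; simpa using hblk1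
  have hJa : adj σ J = J := by rw [hJ, hadj, adj_zero, adj_one]
  let B : (Fin n → F) →ₛₗ[σ] (Fin n → F) →ₗ[F] F := (hermB n σ).compl₂ J.mulVecLin
  have hJsa : ∀ u v, hermB n σ (J *ᵥ u) v = hermB n σ u (J *ᵥ v) := by
    intro u v
    have hJe : ∀ i j, σ (J j i) = J i j := fun i j => congrFun (congrFun hJa i) j
    simp only [hermB_apply, Matrix.mulVec, dotProduct, map_sum, map_mul, Finset.sum_mul, Finset.mul_sum]
    rw [Finset.sum_comm]
    refine Finset.sum_congr rfl fun i _ => Finset.sum_congr rfl fun j _ => ?_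
    rw [hJe]
    ring
  have hB : IsHerm B :=
    { toIsInvol := hσ
      symm := fun x y => by
        show σ (hermB n σ x (J *ᵥ y)) = hermB n σ y (J *ᵥ x)
        rw [(hermB_isHerm hσ n).symm, hJsa]
      nondeg := fun x hx => (hermB_isHerm hσ n).nondeg x fun y => by
        have h := hx (J *ᵥ y)
        change hermB n σ x (J *ᵥ (J *ᵥ y)) = 0 at h
        rwa [Matrix.mulVec_mulVec, hJJ, Matrix.one_mulVec] at h }
  obtain ⟨b, hb⟩ := exists_orthonormal hB
  have hfr : finrank F (Fin n → F) = n := Module.finrank_fin_fun F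
  let Q : Matrix (Fin n) (Fin n) F := Matrix.of fun i j => b (Fin.cast hfr.symm j) i
  have hQ : adj σ Q * (J * Q) = 1 := by
    ext i j
    have h := hb (Fin.cast hfr.symm i) (Fin.cast hfr.symm j)
    change hermB n σ (b (Fin.cast hfr.symm i)) (J *ᵥ b (Fin.cast hfr.symm j)) = _ at h
    rw [hermB_apply] at h
    simpa [Matrix.mul_apply, adj, Q, Matrix.mulVec, dotProduct, Matrix.one_apply] using h
  have hQ2 : adj σ Q * J * Q = 1 := by rw [mul_assoc]; exact hQ
  have hQ' : Q * (adj σ Q * J) = 1 := mul_eq_one_comm.1 hQ2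
  set A'm : Matrix (Fin m) (Fin m) F := (A' : GL (Fin m) F).1 with hA'm
  set B'm : Matrix (Fin m) (Fin m) F := adj σ ((A'⁻¹ : GL (Fin m) F).1) with hB'm
  have hAB : adj σ A'm * B'm = 1 := by rw [hA'm, hB'm, ← adj_mul, Units.inv_mul, adj_one]
  have hBA : adj σ B'm * A'm = 1 := by rw [hB'm, adj_adj hinv, hA'm, Units.inv_mul]
  set D := blk A'm 0 0 B'm with hD
  have hDJ : adj σ D * J * D = J := by
    rw [hD, hJ, hadj, adj_zero, hblk, hblk]
    simp [hAB, hBA]
  set G := adj σ Q * J * D * Q with hG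
  have hGu : adj σ G * G = 1 := by
    rw [hG, adj_mul, adj_mul, adj_mul, adj_adj hinv, hJa]
    calc adj σ Q * (adj σ D * (J * Q)) * (adj σ Q * J * D * Q)
        = adj σ Q * (adj σ D * (J * (Q * (adj σ Q * J)) * D)) * Q := by noncomm_ring
      _ = adj σ Q * (adj σ D * J * D) * Q := by rw [hQ', mul_one, mul_assoc (adj σ D)]
      _ = 1 := by rw [hDJ, hQ2]
  have hdet : G.det = 1 := by
    have h1 : (adj σ Q * J).det * Q.det = 1 := by rw [← Matrix.det_mul, hQ2, Matrix.det_one]
    have hzn : Matrix.det A.1 ≠ 0 := ((Matrix.isUnit_iff_isUnit_det A.1).1 A.isUnit).ne_zero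
    have hA'd : A'm.det = Matrix.det A.1 ^ (q + 1) := by rw [hA'm, hA', Units.val_pow_eq_pow_val, Matrix.det_pow]
    have hBd : B'm.det = σ ((A'm.det)⁻¹) := by
      rw [hB'm, hadjdet]
      refine congrArg σ (eq_inv_of_mul_eq_one_left ?_)
      rw [← Matrix.det_mul, hA'm, Units.inv_mul, Matrix.det_one]
    have hfix : σ (Matrix.det A.1 ^ (q + 1)) = Matrix.det A.1 ^ (q + 1) := by
      rw [map_pow, hσq, ← pow_mul]
      have hc := FiniteField.pow_card (Matrix.det A.1)
      rw [hF] at hc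
      rw [show q * (q + 1) = q ^ 2 + q by ring, pow_add, hc, pow_succ']
    have hDd : D.det = 1 := by
      rw [hD, Matrix.det_reindex_self, Matrix.det_fromBlocks_zero₂₁, hBd, hA'd, map_inv₀, hfix,
        mul_inv_cancel₀ (pow_ne_zero _ hzn)]
    rw [hG, Matrix.det_mul, Matrix.det_mul, hDd, mul_one, h1]
  refine ⟨⟨⟨G, hdet⟩, (mem_SU_iff hσq _).2 ?_⟩, ?_⟩
  · intro u v
    refine (preserves_iff_cols G).2 ?_ u v
    intro i j
    have h := congrFun (congrFun hGu i) j
    rw [hermB_apply]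
    simpa [adj, Matrix.mul_apply, Matrix.one_apply, Matrix.mulVec_single] using h
  intro j a ha
  rw [SubmonoidClass.coe_pow, Matrix.SpecialLinearGroup.coe_pow] at ha
  change G ^ j = _ at ha
  have hGj : ∀ k : ℕ, Q * G ^ k = D ^ k * Q := by
    intro k
    induction k with
    | zero => simp
    | succ k ih =>
      rw [pow_succ, ← mul_assoc, ih, hG, mul_assoc, ← mul_assoc Q, ← mul_assoc Q, hQ', one_mul, ← mul_assoc,
        ← pow_succ]
  have hD2 : D ^ j = Matrix.scalar (Fin n) a := by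
    calc D ^ j = D ^ j * (Q * (adj σ Q * J)) := by rw [hQ', mul_one]
      _ = Q * G ^ j * (adj σ Q * J) := by rw [hGj, mul_assoc]
      _ = Matrix.scalar (Fin n) a := by
        rw [ha, ← (Matrix.scalar_commute a (fun r' => mul_comm a r') Q).eq, mul_assoc, hQ', mul_one]
  have hDk : D ^ j = blk (A'm ^ j) 0 0 (B'm ^ j) := by
    clear hD2 ha
    induction j with
    | zero => simp [hblk1]
    | succ j ih =>
      rw [pow_succ, ih, hD, hblk]
      simp [pow_succ]
  have hblkinj : ∀ a' b' c' d', blk a' b' c' d' = Matrix.scalar (Fin n) a →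
      a' = Matrix.scalar (Fin m) a ∧ d' = Matrix.scalar (Fin m) a := by
    intro a' b' c' d' h
    constructor
    · ext s t
      have h1 := congrFun (congrFun h (eJ (Sum.inl s))) (eJ (Sum.inl t))
      simpa [blk, Matrix.diagonal_apply] using h1
    · ext s t
      have h1 := congrFun (congrFun h (eJ (Sum.inr s))) (eJ (Sum.inr t))
      simpa [blk, Matrix.diagonal_apply] using h1
  rw [hDk] at hD2
  obtain ⟨hAj, -⟩ := hblkinj _ _ _ _ hD2
  set d := Nat.gcd n (q + 1) with hd
  have hdetG : a ^ n = 1 := by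
    have h1 : (G ^ j).det = 1 := by rw [Matrix.det_pow, hdet, one_pow]
    rw [ha] at h1
    simpa using h1
  have hnorm : a ^ (q + 1) = 1 := by
    have h1 : adj σ (G ^ j) * G ^ j = 1 := by
      clear ha hGj hDk hD2 hdetG hAj
      induction j with
      | zero => simp [adj_one]
      | succ j ih =>
        calc adj σ (G ^ (j + 1)) * G ^ (j + 1) = adj σ G * (adj σ (G ^ j) * G ^ j) * G := by
              rw [pow_succ, adj_mul]; noncomm_ring
          _ = 1 := by rw [ih, mul_one, hGu]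
    rw [ha] at h1
    have h2 := congrFun (congrFun h1 ⟨0, by omega⟩) ⟨0, by omega⟩
    simp [adj, hσq, Matrix.diagonal_transpose, Matrix.diagonal_map, Matrix.diagonal_mul_diagonal] at h2
    rw [pow_succ]
    exact h2
  have had : a ^ d = 1 := pow_gcd_eq_one.2 ⟨hdetG, hnorm⟩
  have hA1 : A' ^ (j * d) = 1 := by
    refine Units.ext ?_
    rw [pow_mul, Units.val_pow_eq_pow_val, Units.val_pow_eq_pow_val, ← hA'm, hAj, ← map_pow, had, map_one,
      Units.val_one]
  rw [← hoA]
  exact orderOf_dvd_of_pow_eq_one hA1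

end Cfsg.Agent.UnitaryTorus
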